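import Mathlib
import Cfsg.Prelude.Def_Blocks
import Cfsg.Agent.S4735
import Cfsg.Agent.S0188
import Cfsg.Agent.S0887
import Cfsg.Agent.Walter.AbStruct
import Cfsg.Agent.H611.CoverPrincipal
import Cfsg.Agent.Lib.GenFitting
import Cfsg.Agent.Characters.CCBasic

/-!
# S4515, piece R5: abelian Sylow `2`-subgroups imply that the principal `2`-block has only odd degrees
(from the simple groups)

* `odd_of_index` : normal subgroups of odd index;
* `odd_of_prod` : central products of two subgroups with trivial intersection;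
* `odd_of_abelian` : the result.
-/

set_option autoImplicit false

namespace Cfsg.Agent.H921.EB515

open Cfsg Subgroup
open scoped ComplexConjugate
open Cfsg.Agent.Characters.Core
open Cfsg.Agent.SignalizersComponents
open Cfsg.Agent.SignalizersComponents.Components
open Cfsg.Agent.Walter

universe u

variable {M : Ideal AlgInt}

/-- the restriction of an irreducible character has an irreducible constituent -/
theorem exists_under {G : Type u} [Group G] [Finite G] (N : Subgroup G) [Fintype N] (χ : IrrCharacter G) :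
    ∃ θ : IrrCharacter N, classInner (fun n : N => (χ : G → ℂ) n) (θ : N → ℂ) ≠ 0 := by
  classical
  have hc : IsCharacter N (fun n : N => (χ : G → ℂ) n) :=
    isCharacter_comp N.subtype (isIrr_isCharacter χ.2)
  by_contra hcon
  push Not at hcon
  have h0 := classFunction_eq_zero (isCharacter_isClassFunction hc) (fun θ hθ => hcon ⟨θ, hθ⟩)
  have h2 := congrFun h0 1
  simp only [Pi.zero_apply, OneMemClass.coe_one] at h2
  exact isIrr_apply_one_ne_zero χ.2 h2

theorem odd_of_index {G : Type u} [Group G] [Fintype G] (hM : IsPModular 2 M) (N : Subgroup G) [N.Normal] [Fintype N]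
    (hodd : Odd N.index) (h : ∀ θ ∈ principalBlock M N, Odd (charDegree (θ : N → ℂ))) (χ : IrrCharacter G)
    (hχ : χ ∈ principalBlock M G) : Odd (charDegree (χ : G → ℂ)) := by
  have : Fact (Nat.Prime 2) := ⟨Nat.prime_two⟩
  obtain ⟨θ, hθ⟩ := exists_under N χ
  have h1 := h θ (Cfsg.Agent.H611.CoverPrincipal.mem_principalBlock_of_over 2 hM N χ θ hθ hχ)
  obtain ⟨⟨c, hc⟩, h3⟩ := Cfsg.Agent.S0887.result N (χ : G → ℂ) χ.2 (θ : N → ℂ) θ.2 hθ _ _
    (Cfsg.Agent.Blocks.Basic.irr_one_eq_charDegree χ.2) (Cfsg.Agent.Blocks.Basic.irr_one_eq_charDegree θ.2)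
  rw [hc] at h3 ⊢
  have hpos : 0 < charDegree (θ : N → ℂ) := h1.pos
  rw [Nat.mul_div_cancel_left _ hpos] at h3
  exact h1.mul (hodd.of_dvd_nat h3)

theorem odd_of_prod {G : Type u} [Group G] [Fintype G] (hM : IsPModular 2 M) (A B : Subgroup G) [A.Normal] [B.Normal]
    [Fintype A] [Fintype B] (hcomm : ∀ a ∈ A, ∀ b ∈ B, a * b = b * a) (hgen : ∀ g : G, ∃ a ∈ A, ∃ b ∈ B, a * b = g)
    (hA : ∀ θ ∈ principalBlock M A, Odd (charDegree (θ : A → ℂ)))
    (hB : ∀ θ ∈ principalBlock M B, Odd (charDegree (θ : B → ℂ))) (χ : IrrCharacter G)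
    (hχ : χ ∈ principalBlock M G) : Odd (charDegree (χ : G → ℂ)) := by
  have : Fact (Nat.Prime 2) := ⟨Nat.prime_two⟩
  let f : A × B →* G := MonoidHom.noncommCoprod A.subtype B.subtype (fun a b => hcomm a a.2 b b.2)
  have hf : ∀ x, f x = x.1 * x.2 := fun x => rfl
  have hsurj : Function.Surjective f := fun g => by
    obtain ⟨a, ha, b, hb, h⟩ := hgen g
    exact ⟨(⟨a, ha⟩, ⟨b, hb⟩), h⟩
  have h1 : IsIrrCharacter (A × B) ((χ : G → ℂ) ∘ f) := isIrr_comp f hsurj χ.2
  obtain ⟨φ, ψ, hφ, hψ, h2⟩ := (Cfsg.Agent.S0188.result _).1 h1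
  have hφ1 := Cfsg.Agent.Blocks.Basic.irr_one_eq_charDegree hφ
  have hψ1 := Cfsg.Agent.Blocks.Basic.irr_one_eq_charDegree hψ
  have h3 : ∀ a : A, (χ : G → ℂ) a = ψ 1 * φ a := by
    intro a
    have h := congrFun h2 (a, 1)
    simp only [Function.comp_apply, hf, OneMemClass.coe_one, mul_one] at h
    rw [h, mul_comm]
  have h4 : ∀ b : B, (χ : G → ℂ) b = φ 1 * ψ b := by
    intro b
    have h := congrFun h2 (1, b)
    simp only [Function.comp_apply, hf, OneMemClass.coe_one, one_mul] at h
    exact h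
  have h5 : classInner (fun a : A => (χ : G → ℂ) a) φ ≠ 0 := by
    have e : (fun a : A => (χ : G → ℂ) a) = (ψ 1) • φ := by
      funext a; rw [h3]; rfl
    rw [e, Cfsg.Agent.Characters.Core.classInner_smul_left, classInner_irr_self hφ, mul_one]
    exact isIrr_apply_one_ne_zero hψ
  have h6 : classInner (fun b : B => (χ : G → ℂ) b) ψ ≠ 0 := by
    have e : (fun b : B => (χ : G → ℂ) b) = (φ 1) • ψ := by
      funext b; rw [h4]; rfl
    rw [e, Cfsg.Agent.Characters.Core.classInner_smul_left, classInner_irr_self hψ, mul_one]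
    exact isIrr_apply_one_ne_zero hφ
  have h7 := hA ⟨φ, hφ⟩ (Cfsg.Agent.H611.CoverPrincipal.mem_principalBlock_of_over 2 hM A χ ⟨φ, hφ⟩ h5 hχ)
  have h8 := hB ⟨ψ, hψ⟩ (Cfsg.Agent.H611.CoverPrincipal.mem_principalBlock_of_over 2 hM B χ ⟨ψ, hψ⟩ h6 hχ)
  have h9 : charDegree (χ : G → ℂ) = charDegree φ * charDegree ψ := by
    have h := h3 1
    rw [OneMemClass.coe_one, Cfsg.Agent.Blocks.Basic.irr_one_eq_charDegree χ.2, hφ1, hψ1] at h
    have h' : (charDegree (χ : G → ℂ) : ℂ) = ((charDegree ψ * charDegree φ : ℕ) : ℂ) := by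
      rw [h]; push_cast; ring
    rw [Nat.cast_inj.1 h', mul_comm]
  rw [h9]
  exact h7.mul h8

/-- abelian Sylow 2-subgroups pass to subgroups -/
theorem comm_sub {G : Type u} [Group G] [Finite G] {S : Sylow 2 G}
    (hS : ∀ a ∈ (S : Subgroup G), ∀ b ∈ (S : Subgroup G), a * b = b * a) (H : Subgroup G)
    (T : Sylow 2 H) : ∀ a ∈ (T : Subgroup H), ∀ b ∈ (T : Subgroup H), a * b = b * a := by
  have h1 : IsPGroup 2 ((T : Subgroup H).map H.subtype) := T.2.map _
  obtain ⟨Q, hQ⟩ := h1.exists_le_sylow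
  have : Fact (Nat.Prime 2) := ⟨Nat.prime_two⟩
  obtain ⟨g, hg⟩ := MulAction.exists_smul_eq G S Q
  intro a ha b hb
  have hmem : ∀ x ∈ (Q : Subgroup G), g⁻¹ * x * g ∈ (S : Subgroup G) := by
    intro x hx
    rw [← hg] at hx
    rw [Sylow.coe_subgroup_smul, mem_pointwise_smul_iff_inv_smul_mem] at hx
    simpa [MulAut.smul_def] using hx
  have h2 := hS _ (hmem a (hQ ⟨a, ha, rfl⟩)) _ (hmem b (hQ ⟨b, hb, rfl⟩))
  have h3 : (a : G) * b = b * a := by
    have h4 : g * ((g⁻¹ * a * g) * (g⁻¹ * b * g)) * g⁻¹ = (a : G) * b := by group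
    have h5 : g * ((g⁻¹ * b * g) * (g⁻¹ * a * g)) * g⁻¹ = (b : G) * a := by group
    rw [← h4, ← h5, h2]
  exact Subtype.ext h3

/-- abelian Sylow 2-subgroups pass to quotients -/
theorem comm_quot {G Y : Type u} [Group G] [Finite G] [Group Y] [Finite Y] {S : Sylow 2 G}
    (hS : ∀ a ∈ (S : Subgroup G), ∀ b ∈ (S : Subgroup G), a * b = b * a) {f : G →* Y}
    (hf : Function.Surjective f) : ∀ a ∈ ((S.mapSurjective hf : Sylow 2 Y) : Subgroup Y),
      ∀ b ∈ ((S.mapSurjective hf : Sylow 2 Y) : Subgroup Y), a * b = b * a := by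
  intro a ha b hb
  obtain ⟨a', ha', rfl⟩ := ha
  obtain ⟨b', hb', rfl⟩ := hb
  rw [← map_mul, hS a' ha' b' hb', map_mul]

theorem main {M : Ideal AlgInt} (hM : IsPModular 2 M)
    (hrow : ∀ (S : Type u) [Group S] [Finite S] [IsSimpleGroup S], ¬ IsMulCommutative S →
      (∀ P : Sylow 2 S, IsMulCommutative P) → ∀ χ ∈ principalBlock M S, Odd (charDegree (χ : S → ℂ))) :
    ∀ (n : ℕ) (G : Type u) [Group G] [Finite G] (_ : Nat.card G = n) (P : Sylow 2 G)
      (_ : ∀ a ∈ (P : Subgroup G), ∀ b ∈ (P : Subgroup G), a * b = b * a),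
      ∀ χ ∈ principalBlock M G, Odd (charDegree (χ : G → ℂ)) := by
  intro n
  induction n using Nat.strong_induction_on with
  | _ n ih =>
  intro G _ _ hn S hS χ hχ
  classical
  have := Fintype.ofFinite G
  have : Fact (Nat.Prime 2) := ⟨Nat.prime_two⟩
  have ih' : ∀ N : Subgroup G, N ≠ ⊤ → ∀ θ ∈ principalBlock M N, Odd (charDegree (θ : N → ℂ)) := by
    intro N hN
    obtain ⟨T⟩ : Nonempty (Sylow 2 N) := inferInstance
    refine ih (Nat.card N) ?_ N rfl T (comm_sub hS N T)
    rw [← hn]
    refine lt_of_le_of_ne (Subgroup.card_le_card_group N) fun h => hN ?_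
    exact Subgroup.eq_top_of_card_eq N h
  by_cases hO : pPrimeCore 2 G = ⊥
  · have hFn : (generalizedFittingSubgroup G).Normal := Cfsg.Agent.Lib.GenFitting.genFitting_normal
    by_cases hF : generalizedFittingSubgroup G = ⊤
    · by_cases hK : ∃ K : Subgroup G, IsComponent K
      · obtain ⟨K, hK⟩ := hK
        have hsimp := AbStruct.isSimpleGroup hO hS hK
        have hnc := AbStruct.not_comm hK
        have hcent : K ⊔ centralizer (K : Set G) = ⊤ := by
          rw [eq_top_iff, ← hF, AbStruct.genFitting_eq hO]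
          refine sup_le ?_ ?_
          · refine le_trans (AbStruct.pCore_le_centralizer_layer hO) (le_trans ?_ le_sup_right)
            exact centralizer_le (component_le_layer hK)
          · rw [layer]
            refine sSup_le fun L hL => ?_
            by_cases h : K = L
            · rw [← h]; exact le_sup_left
            · have h1 := Cfsg.Agent.S1270.component_comm_of_ne hK hL h
              rw [commutator_eq_bot_iff_le_centralizer, le_centralizer_iff] at h1
              exact h1.trans le_sup_right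
        have hKn : K.Normal := by
          rw [← normalizer_eq_top_iff, eq_top_iff, ← hcent]
          exact sup_le le_normalizer (centralizer_le_normalizer _)
        have hCn : (centralizer (K : Set G)).Normal := inferInstance
        have hC : centralizer (K : Set G) ≠ ⊤ := by
          intro h
          apply hnc
          refine ⟨⟨fun a b => Subtype.ext ?_⟩⟩
          have h1 : (a : G) ∈ centralizer (K : Set G) := by rw [h]; trivial
          exact (mem_centralizer_iff.1 h1 b b.2).symm
        refine odd_of_prod hM K (centralizer (K : Set G)) ?_ ?_ ?_ (ih' _ hC) χ hχ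
        · intro a ha b hb
          exact mem_centralizer_iff.1 hb a ha
        · intro g
          have hg : g ∈ K ⊔ centralizer (K : Set G) := by rw [hcent]; trivial
          exact Subgroup.mem_sup_of_normal_left.1 hg
        · refine hrow K hnc (fun P => ⟨⟨fun a b => Subtype.ext ?_⟩⟩)
          exact comm_sub hS K P a a.2 b b.2
      · have hl : layer G = ⊥ := by
          rw [layer, eq_bot_iff]
          exact sSup_le (fun K hK' => (hK ⟨K, hK'⟩).elim)
        have h1 := AbStruct.genFitting_eq hO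
        rw [hl, sup_bot_eq, hF] at h1
        have h2 : (S : Subgroup G) = ⊤ := by
          rw [eq_top_iff, h1]
          exact Lib.Cores.pCore_le_sylow S
        have h3 : ∀ a b : G, a * b = b * a := fun a b =>
          hS a (by rw [h2]; trivial) b (by rw [h2]; trivial)
        have h4 := Cfsg.Agent.Characters.CCBasic.irr_apply_one_of_comm h3 χ.2
        rw [Cfsg.Agent.Blocks.Basic.irr_one_eq_charDegree χ.2] at h4
        have h5 : charDegree (χ : G → ℂ) = 1 := by exact_mod_cast h4
        rw [h5]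
        exact odd_one
    · exact odd_of_index hM _ (AbStruct.odd_index hO hS) (ih' _ hF) χ hχ
  · have hn' : (pPrimeCore 2 G).Normal := Lib.Cores.pPrimeCore_normal 2
    have hco : (Nat.card (pPrimeCore 2 G)).Coprime 2 := Lib.Cores.pPrimeCore_coprime 2
    have hnd : ¬ 2 ∣ Nat.card (pPrimeCore 2 G) := by
      rw [← Nat.Prime.coprime_iff_not_dvd Nat.prime_two]
      exact hco.symm
    obtain ⟨ψ, hψ, hψχ⟩ := (Cfsg.Agent.S4735.bijOn_infl hM (pPrimeCore 2 G) hnd).surjOn hχ
    have h1 : Nat.card (G ⧸ pPrimeCore 2 G) < n := by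
      rw [← hn, Subgroup.card_eq_card_quotient_mul_card_subgroup (pPrimeCore 2 G)]
      have h2 : 1 < Nat.card (pPrimeCore 2 G) := by
        rw [Subgroup.one_lt_card_iff_ne_bot]
        exact hO
      exact lt_mul_of_one_lt_right Nat.card_pos h2
    have h2 := ih _ h1 (G ⧸ pPrimeCore 2 G) rfl
      (S.mapSurjective (QuotientGroup.mk'_surjective (pPrimeCore 2 G)))
      (comm_quot hS (QuotientGroup.mk'_surjective (pPrimeCore 2 G))) ψ hψ
    have h3 : charDegree (χ : G → ℂ) = charDegree (ψ : G ⧸ pPrimeCore 2 G → ℂ) := by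
      have h4 : (χ : G → ℂ) 1 = (ψ : G ⧸ pPrimeCore 2 G → ℂ) 1 := by
        rw [← hψχ, Cfsg.Agent.S4735.infl_apply]
        rfl
      rw [Cfsg.Agent.Blocks.Basic.irr_one_eq_charDegree χ.2,
        Cfsg.Agent.Blocks.Basic.irr_one_eq_charDegree ψ.2] at h4
      exact_mod_cast h4
    rw [h3]
    exact h2

/-- [R5] the direction from right to left of S4515, from the simple groups -/
theorem odd_of_abelian {M : Ideal AlgInt} (hM : IsPModular 2 M)
    (hrow : ∀ (S : Type u) [Group S] [Finite S] [IsSimpleGroup S], ¬ IsMulCommutative S →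
      (∀ P : Sylow 2 S, IsMulCommutative P) → ∀ χ ∈ principalBlock M S, Odd (charDegree (χ : S → ℂ)))
    (G : Type u) [Group G] [Finite G] (P : Sylow 2 G) (hP : IsMulCommutative P) :
    ∀ χ ∈ principalBlock M G, Odd (charDegree (χ : G → ℂ)) := by
  refine main hM hrow (Nat.card G) G rfl P ?_
  intro a ha b hb
  exact congrArg Subtype.val (hP.is_comm.comm ⟨a, ha⟩ ⟨b, hb⟩)

end Cfsg.Agent.H921.EB515
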